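import Cfsg.Agent.Lib.Sporadic.LyOut.Mats

/-!
# Checks for the outer automorphisms of the Lyons group
-/

set_option autoImplicit false
set_option maxRecDepth 100000

namespace CfsgLib.Sporadic.CosetCert.LyOut

open LyG2Five LyIndex LyCent WideMatrix CfsgLib.Schur.Sporadic.Ly

/-- Two words give one matrix. -/
noncomputable def eqW (a b : List ℕ) : Bool :=
  Nat.beq (valP kk a (oneW 111)) (valP kk b (oneW 111))

/-- The image of a word. -/
def mapW (img : List (List ℕ)) (w : List ℕ) : List ℕ := w.flatMap fun i => img.getD i []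

/-- The images of the nine elements under the identity. -/
def idW : List (List ℕ) := [[0], [1], [2], [3], [4], [5], [6], [7], [8], [9]]

theorem s_ok : eqW [10, 9] (sW ++ [10]) = true ∧ eqW ([15] ++ sW) (sW ++ [15]) = true := by decide +kernel

theorem s_tau : eqW (mapW vqW sW) sW = true := by decide +kernel

theorem c_ok : eqW [15, 10] ([10] ++ cW) = true ∧ eqW [9, 15, 9, 10] ([10] ++ dW) = true := by decide +kernel

theorem five_ok : eqW [15, 15, 15, 15, 15] [] = true := by decide +kernel

theorem conj0_ok : ∀ k < 2, eqW (wW0.getD k [] ++ [10]) ([10] ++ hW0.getD k []) = true ∧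
    eqW (mapW idW (wW0.getD k []) ++ [10]) ([10] ++ kW0.getD k []) = true := by decide +kernel

theorem conj1a_ok : ∀ k < 2, eqW (wW1.getD k [] ++ [10]) ([10] ++ hW1.getD k []) = true := by decide +kernel

theorem conj1b_ok : ∀ k < 2, eqW (mapW vqW (wW1.getD k []) ++ [10]) ([10] ++ kW1.getD k []) = true := by
  decide +kernel

theorem gen_ok : ∀ k < 4, eqW [11 + k] (genW.getD k []) = true := by decide +kernel

theorem words_small : (∀ k < 2, (∀ i ∈ wW0.getD k [] ++ hW0.getD k [] ++ kW0.getD k [], i < 10) ∧
    (∀ i ∈ wW1.getD k [] ++ hW1.getD k [] ++ kW1.getD k [], i < 10)) ∧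
    (∀ k < 4, ∀ i ∈ genW.getD k [], i < 10) ∧ (∀ i ∈ sW ++ cW ++ dW, i < 10) ∧
    (∀ k < 10, ∀ i ∈ vqW.getD k [], i < 10) := by decide +kernel

/-- The image of a point under a letter. -/
def pLet (k i : ℕ) : ℕ :=
  if k < 9 then (if i = 0 then 1 else if i = 1 then k + 2 else if i = k + 2 then 0 else i) else i

/-- The image of a point under a word. -/
def pimg (w : List ℕ) (i : ℕ) : ℕ := w.foldr pLet i

/-- The map propagated from the images of the points at which the paths start. -/
def propF (ks : List (List ℕ)) (orb : List (ℕ × List ℕ)) (x : List ℕ) (i : ℕ) : ℕ :=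
  (orb.getD i (0, [])).2.foldl (fun z k => pimg (ks.getD k []) z) (x.getD (orb.getD i (0, [])).1 0)

/-- The propagated map is a permutation commuting as prescribed. -/
def fits (hs ks : List (List ℕ)) (orb : List (ℕ × List ℕ)) (x : List ℕ) : Bool :=
  ((List.range 11).all fun i => (List.range 11).all fun j =>
      !(propF ks orb x i == propF ks orb x j) || i == j) &&
    ((List.range hs.length).all fun k => (List.range 11).all fun i =>
      propF ks orb x (pimg (hs.getD k []) i) == pimg (ks.getD k []) (propF ks orb x i))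

/-- The propagated map intertwines two words. -/
def inter (ks : List (List ℕ)) (orb : List (ℕ × List ℕ)) (x : List ℕ) (a b : List ℕ) : Bool :=
  (List.range 11).all fun i => propF ks orb x (pimg a i) == pimg b (propF ks orb x i)

/-- The paths lead from the two points to all points. -/
def pathsOK (hs : List (List ℕ)) (orb : List (ℕ × List ℕ)) (reps : List ℕ) : Bool :=
  (List.range 11).all fun i =>
    decide ((orb.getD i (0, [])).1 < 2) && decide (∀ k ∈ (orb.getD i (0, [])).2, k < 2) &&
      (orb.getD i (0, [])).2.foldl (fun z k => pimg (hs.getD k []) z) (reps.getD (orb.getD i (0, [])).1 0) == i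

theorem paths_ok : pathsOK hW0 orbW0 reps0 = true ∧ pathsOK hW1 orbW1 reps1 = true ∧
    hW0.length = 2 ∧ hW1.length = 2 := by decide +kernel

theorem id_solutions : ∀ a < 11, ∀ b < 11, fits hW0 kW0 orbW0 [a, b] = true →
    inter kW0 orbW0 [a, b] cW cW = true ∨ inter kW0 orbW0 [a, b] cW dW = true := by decide +kernel

theorem tau_solutions : ∀ a < 11, ∀ b < 11, fits hW1 kW1 orbW1 [a, b] = false := by decide +kernel

theorem vq_perm : ∀ k < 9, ∀ i < 11, (fun x => if x = 4 then 6 else if x = 6 then 4 else x)
    (pLet k ((fun x => if x = 4 then 6 else if x = 6 then 4 else x) i)) = pimg (vqW.getD k []) i := by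
  decide +kernel

theorem id_perm : ∀ k < 9, ∀ i < 11, pLet k i = pimg (idW.getD k []) i := by decide +kernel

theorem vq_cube : ∀ k < 9, eqW (vqW.getD k [] ++ vqW.getD k [] ++ vqW.getD k []) [] = true := by
  decide +kernel

end CfsgLib.Sporadic.CosetCert.LyOut
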