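import Cfsg.Agent.Lib.Sporadic.LyOut.Check
import Cfsg.Agent.Lib.Sporadic.LyIndex.Simple
import Cfsg.Agent.Lib.Schur.Ly.Wide
import Cfsg.Agent.S2119
import Cfsg.Prelude.Def_KGroupFacts

/-!
# The outer automorphism group of the presented Lyons group is trivial

After an inner automorphism an automorphism fixes an involution `T` and induces on the centraliser modulo
`T` either the identity or a transposition. A second involution `s` of the centraliser is conjugate to `T`
by `g`; transporting to the centraliser of `s` leaves two possibilities for the image of a generator in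
the first case and none in the second.
-/

set_option autoImplicit false
set_option maxRecDepth 100000

namespace CfsgLib.Sporadic.CosetCert.LyOut

open LyG2Five LyIndex LyCent WideMatrix CfsgLib.Schur.Sporadic.Ly CfsgLib.Schur.Tails Equiv Cfsg Cfsg.Spor

attribute [local instance] factPrimeFive

theorem rep_eq_rho : rep = LyIndex.rho := rfl

attribute [local irreducible] WideMatrix.mul okRows prodW oneW lane dec mT mA kk matR matP matQ matG eqW
  rep vv V W

theorem isLy : Cfsg.IsLy LyP := ⟨isSimple_Ly, card_Ly_eq⟩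

theorem rho_injective' : Function.Injective LyIndex.rho := rep_eq_rho ▸ rep_injective isLy

theorem inRho_means {A : List ℕ} {g : LyP} (h : Means A g) : InRho A :=
  ⟨h.1, ⟨LyIndex.rho g, g, rfl⟩, by show (LyIndex.rho g).val = _; rw [← rep_eq_rho]; exact h.2⟩

theorem matG_in : InRho matG := by
  have hR : InRho matR := prodIs_spec (List.forall_mem_cons.2 ⟨inRho_lett 0, List.forall_mem_cons.2 ⟨inRho_lett 6,
    List.forall_mem_cons.2 ⟨inRho_lett 5, List.forall_mem_cons.2 ⟨inRho_lett 0, List.forall_mem_cons.2 ⟨inRho_lett 0,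
    List.forall_mem_cons.2 ⟨inRho_lett 0, List.forall_mem_cons.2 ⟨inRho_lett 0, List.forall_mem_cons.2 ⟨inRho_lett 4,
    List.forall_mem_cons.2 ⟨inRho_lett 7, List.forall_mem_cons.2 ⟨inRho_lett 1, List.forall_mem_nil _⟩⟩⟩⟩⟩⟩⟩⟩⟩⟩)
    matR_chk.1 matR_chk.2
  have hP : InRho matP := prodIs_spec (List.forall_mem_cons.2 ⟨inRho_lett 0, List.forall_mem_cons.2 ⟨inRho_lett 0,
    List.forall_mem_cons.2 ⟨inRho_lett 0, List.forall_mem_cons.2 ⟨inRho_lett 0, List.forall_mem_cons.2 ⟨hR,
    List.forall_mem_nil _⟩⟩⟩⟩⟩) matP_chk.1 matP_chk.2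
  have hQ : InRho matQ := prodIs_spec (List.forall_mem_cons.2 ⟨hR, fun G hG => by
    obtain ⟨i, -, rfl⟩ := List.mem_map.1 hG
    split
    · exact inRho_means (means_vv ‹_›).1
    · exact inRho_means means_TWV.1⟩) matQ_chk.1 matQ_chk.2
  refine prodIs_spec (fun G hG => ?_) matG_chk.1 matG_chk.2
  rcases List.mem_append.1 hG with h | h <;> rw [List.eq_of_mem_replicate h]
  exacts [hQ, hP]

/-- The conjugating element. -/
noncomputable def gEl : LyP := (exists_repW matG_in).choose

/-- The elements of the letters. -/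
noncomputable def yv (i : ℕ) : LyP :=
  [vv 0, vv 1, vv 2, vv 3, vv 4, vv 5, vv 6, vv 7, vv 8, T, gEl, gL 0, gL 2, gL 6, gL 9, gL 4].getD i 1

theorem yv_vv {i : ℕ} (hi : i < 9) : yv i = vv i := by
  interval_cases i <;> rfl

theorem rep_yv : ∀ i, RepW LyIndex.rho (look kk i) (yv i) := by
  have hm : ∀ {A : List ℕ} {g : LyP}, Means A g → RepW LyIndex.rho A g := fun h =>
    ⟨h.1, by rw [← rep_eq_rho]; exact h.2⟩
  have hl : ∀ x, RepW LyIndex.rho (lett111 x) (gL x) := fun x => hm (means_gL x)
  intro i
  unfold look kk yv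
  match i with
  | 0 => exact hm (means_vv (i := 0) (by norm_num)).1
  | 1 => exact hm (means_vv (i := 1) (by norm_num)).1
  | 2 => exact hm (means_vv (i := 2) (by norm_num)).1
  | 3 => exact hm (means_vv (i := 3) (by norm_num)).1
  | 4 => exact hm (means_vv (i := 4) (by norm_num)).1
  | 5 => exact hm (means_vv (i := 5) (by norm_num)).1
  | 6 => exact hm (means_vv (i := 6) (by norm_num)).1
  | 7 => exact hm (means_vv (i := 7) (by norm_num)).1
  | 8 => exact hm (means_vv (i := 8) (by norm_num)).1
  | 9 => exact hm means_TWV.1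
  | 10 => exact (exists_repW matG_in).choose_spec
  | 11 => exact hl 0
  | 12 => exact hl 2
  | 13 => exact hl 6
  | 14 => exact hl 9
  | 15 => exact hl 4
  | k + 16 =>
    rw [List.getD_eq_default _ _ (by simp), List.getD_eq_default _ _ (by simp)]
    exact ⟨ok_all111 13, by rw [map_one, Units.val_one]; exact md111_id.symm⟩

theorem eq_of_eqW {a b : List ℕ} (h : eqW a b = true) : valW yv a = valW yv b := by
  unfold eqW at h
  rw [Nat.beq_eq] at h
  have h1 := good_valP rep_yv a good_one
  have h2 := good_valP rep_yv b good_one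
  rw [one_mul] at h1 h2
  exact eq_of_valP rho_injective' h1 (h ▸ h2)

/-- The elements of the centraliser. -/
noncomputable def yC (i : ℕ) : CT :=
  if h : i < 9 then vC isLy ⟨i, h⟩ else if i = 9 then tC else 1

theorem val_yC {w : List ℕ} (hw : ∀ i ∈ w, i < 10) : ((valW yC w : CT) : LyP) = valW yv w := by
  induction w with
  | nil => simp
  | cons i w ih =>
    rw [valW_cons, valW_cons, Subgroup.coe_mul, ih fun j hj => hw j (List.mem_cons_of_mem _ hj)]
    congr 1
    have := hw i List.mem_cons_self
    rcases lt_or_ge i 9 with h | h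
    · rw [yC, dif_pos h, yv_vv h]; rfl
    · obtain rfl : i = 9 := by omega
      rw [yC, dif_neg (by norm_num), if_pos rfl]; rfl

/-- The projection. -/
noncomputable def proj : CT →* alternatingGroup (Fin 11) := (exists_proj isLy).choose

theorem proj_surj : Function.Surjective proj := (exists_proj isLy).choose_spec.1

theorem proj_ker (c : CT) : proj c = 1 ↔ ((c : LyP) = 1 ∨ (c : LyP) = T) :=
  (exists_proj isLy).choose_spec.2.1 c

theorem proj_vC (i : Fin 9) : proj (vC isLy i) = cyc i := (exists_proj isLy).choose_spec.2.2 i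

/-- The permutation of an element of the centraliser. -/
noncomputable def permC : CT →* Perm (Fin 11) := (alternatingGroup (Fin 11)).subtype.comp proj

theorem cyc_pLet : ∀ (k : Fin 9) (i : Fin 11), (((cyc k : Perm (Fin 11)) i : Fin 11) : ℕ) = pLet k i := by
  decide +kernel

theorem permC_word {w : List ℕ} (hw : ∀ i ∈ w, i < 10) (i : Fin 11) :
    ((permC (valW yC w) i : Fin 11) : ℕ) = pimg w i := by
  induction w with
  | nil => simp [pimg]
  | cons k w ih =>
    rw [valW_cons, map_mul, Perm.mul_apply, pimg, List.foldr_cons, ← pimg,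
      ← ih fun j hj => hw j (List.mem_cons_of_mem _ hj)]
    generalize permC (valW yC w) i = p
    have := hw k List.mem_cons_self
    rcases lt_or_ge k 9 with h | h
    · rw [yC, dif_pos h]
      show (((proj (vC isLy ⟨k, h⟩) : Perm (Fin 11)) p : Fin 11) : ℕ) = _
      rw [proj_vC]
      exact cyc_pLet ⟨k, h⟩ p
    · obtain rfl : k = 9 := by omega
      rw [yC, dif_neg (by norm_num), if_pos rfl]
      show (((proj tC : Perm (Fin 11)) p : Fin 11) : ℕ) = _
      rw [(proj_ker tC).2 (Or.inr rfl)]
      rfl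

theorem closure_vC : Subgroup.closure (Set.range (vC isLy)) = ⊤ := by
  obtain ⟨L, hL⟩ : ∃ L, L = Subgroup.closure (Set.range (vC isLy)) := ⟨_, rfl⟩
  rw [← hL]
  have hmem : ∀ i, vC isLy i ∈ L := fun i => hL ▸ Subgroup.subset_closure ⟨i, rfl⟩
  have hmap : L.map proj = ⊤ := by
    rw [hL, MonoidHom.map_closure, ← Set.range_comp, show proj ∘ vC isLy = cyc from funext proj_vC]
    exact cyc_closure
  have hT : tC ∈ L := by
    have e : tC = vC isLy 0 * vC isLy 1 * (vC isLy 0 * vC isLy 1) :=
      Subtype.ext (pair_T isLy (i := 0) (j := 1) (by decide)).symm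
    rw [e]
    exact mul_mem (mul_mem (hmem 0) (hmem 1)) (mul_mem (hmem 0) (hmem 1))
  rw [eq_top_iff]
  intro c _
  obtain ⟨d, hd, hde⟩ : proj c ∈ L.map proj := hmap ▸ Subgroup.mem_top _
  rcases (proj_ker (d⁻¹ * c)).1 (by rw [map_mul, map_inv, hde, inv_mul_cancel]) with h | h
  · rw [show c = d * 1 by rw [← show d⁻¹ * c = 1 from Subtype.ext h, mul_inv_cancel_left]]
    exact mul_mem hd (one_mem _)
  · rw [show c = d * tC by rw [← show d⁻¹ * c = tC from Subtype.ext h, mul_inv_cancel_left]]
    exact mul_mem hd hT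

/-! ### Automorphisms fixing the involution -/

/-- The restriction to the centraliser. -/
noncomputable def resC (α : MulAut LyP) (hα : α T = T) : MulAut CT where
  toFun c := ⟨α c, Subgroup.mem_centralizer_singleton_iff.2 (by
    have h := congrArg α (Subgroup.mem_centralizer_singleton_iff.1 c.2)
    rwa [map_mul, map_mul, hα] at h)⟩
  invFun c := ⟨α.symm c, Subgroup.mem_centralizer_singleton_iff.2 (by
    have h := congrArg α.symm (Subgroup.mem_centralizer_singleton_iff.1 c.2)
    rwa [map_mul, map_mul, show α.symm T = T by rw [MulEquiv.symm_apply_eq, hα]] at h)⟩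
  left_inv c := Subtype.ext (α.symm_apply_apply _)
  right_inv c := Subtype.ext (α.apply_symm_apply _)
  map_mul' c d := Subtype.ext (map_mul α _ _)

/-- The induced automorphism of the alternating group. -/
theorem exists_perm (α : MulAut LyP) (hα : α T = T) :
    ∃ π : Perm (Fin 11), ∀ c : CT, permC (resC α hα c) = π * permC c * π⁻¹ := by
  obtain ⟨r, hr⟩ : ∃ r, r = resC α hα := ⟨_, rfl⟩
  rw [← hr]
  have hk : ∀ c : CT, proj c = 1 ↔ proj (r c) = 1 := fun c => by
    rw [proj_ker, proj_ker, hr]
    show _ ↔ α c = 1 ∨ α c = T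
    rw [map_eq_one_iff _ α.injective]
    conv_rhs => rw [← hα, α.injective.eq_iff]
  let ψ : alternatingGroup (Fin 11) →* alternatingGroup (Fin 11) :=
    MonoidHom.mk' (fun a => proj (r (proj_surj a).choose)) fun a b => by
      rw [← map_mul, ← map_mul]
      have h := (hk ((proj_surj (a * b)).choose⁻¹ * ((proj_surj a).choose * (proj_surj b).choose))).1 (by
        rw [map_mul, map_inv, map_mul, (proj_surj (a * b)).choose_spec, (proj_surj a).choose_spec,
          (proj_surj b).choose_spec, inv_mul_cancel])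
      rw [map_mul, map_mul, map_inv, map_inv, inv_mul_eq_one] at h
      exact h
  have hψ : ∀ c, ψ (proj c) = proj (r c) := fun c => by
    have h := (hk ((proj_surj (proj c)).choose⁻¹ * c)).1 (by
      rw [map_mul, map_inv, (proj_surj (proj c)).choose_spec, inv_mul_cancel])
    rw [map_mul, map_mul, map_inv, map_inv, inv_mul_eq_one] at h
    exact h
  have hψs : Function.Surjective ψ := fun a => by
    obtain ⟨c, rfl⟩ := proj_surj a
    exact ⟨proj (r.symm c), by rw [hψ, r.apply_symm_apply]⟩
  obtain ⟨π, hπ⟩ := (Cfsg.Agent.S2119.result 11 (by norm_num) (by norm_num)).2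
    (MulEquiv.ofBijective ψ ⟨Finite.injective_iff_surjective.2 hψs, hψs⟩)
  refine ⟨π, fun c => ?_⟩
  show ((proj (r c) : alternatingGroup (Fin 11)) : Perm (Fin 11)) = _
  rw [← hψ, show ψ (proj c) = MulAut.conjNormal π (proj c) by rw [hπ]; rfl, MulAut.conjNormal_apply]
  rfl

/-- An automorphism fixing the involution is given on the nine elements after an inner automorphism. -/
theorem exists_normal (α : MulAut LyP) (hα : α T = T) :
    ∃ c : LyP, (MulAut.conj c * α) T = T ∧
      ((∀ w : List ℕ, (∀ i ∈ w, i < 10) → (MulAut.conj c * α) (valW yv w) = valW yv (mapW idW w)) ∨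
       (∀ w : List ℕ, (∀ i ∈ w, i < 10) → (MulAut.conj c * α) (valW yv w) = valW yv (mapW vqW w))) := by
  obtain ⟨π, hπ⟩ := exists_perm α hα
  obtain ⟨ρ, hρ1, hρ2⟩ : ∃ ρ : Perm (Fin 11), Perm.sign ρ = 1 ∧ (ρ * π = 1 ∨ ρ * π = swap 4 6) := by
    rcases Int.units_eq_one_or (Perm.sign π) with h | h
    · exact ⟨π⁻¹, by rw [map_inv, h, inv_one], Or.inl (inv_mul_cancel π)⟩
    · refine ⟨swap 4 6 * π⁻¹, ?_, Or.inr (inv_mul_cancel_right _ _)⟩
      rw [map_mul, map_inv, h, Perm.sign_swap (by decide)]
      rfl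
  obtain ⟨d, hd⟩ := proj_surj ⟨ρ, Perm.mem_alternatingGroup.2 hρ1⟩
  obtain ⟨β, hβ⟩ : ∃ β, β = MulAut.conj (d : LyP) * α := ⟨_, rfl⟩
  have hβT : β T = T := by
    rw [hβ, MulAut.mul_apply, hα, MulAut.conj_apply]
    rw [Subgroup.mem_centralizer_singleton_iff.1 d.2, mul_inv_cancel_right]
  refine ⟨(d : LyP), hβ ▸ hβT, ?_⟩
  rw [← hβ]
  have hdp : permC d = ρ := congrArg Subtype.val hd
  have hperm : ∀ c : CT, permC (resC β hβT c) = (ρ * π) * permC c * (ρ * π)⁻¹ := by
    intro c
    have e : resC β hβT c = d * resC α hα c * d⁻¹ := Subtype.ext (by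
      show β c = _
      rw [hβ]; rfl)
    rw [e, map_mul, map_mul, map_inv, hπ, hdp]
    group
  have main : ∀ (img : List (List ℕ)), (∀ k < 10, ∀ i ∈ img.getD k [], i < 10) → img.getD 9 [] = [9] →
      (∀ k < 9, valW yv (img.getD k [] ++ img.getD k [] ++ img.getD k []) = 1) →
      (∀ k < 9, ∀ i : Fin 11, ((((ρ * π) * permC (yC k) * (ρ * π)⁻¹) i : Fin 11) : ℕ) = pimg (img.getD k []) i) →
      ∀ w : List ℕ, (∀ i ∈ w, i < 10) → β (valW yv w) = valW yv (mapW img w) := by
    intro img hsmall h9 hcube himg w hw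
    induction w with
    | nil => simp [mapW]
    | cons k w ih =>
      rw [valW_cons, map_mul, ih fun j hj => hw j (List.mem_cons_of_mem _ hj)]
      show _ = valW yv (img.getD k [] ++ mapW img w)
      rw [valW_append]
      congr 1
      have hk := hw k List.mem_cons_self
      rcases lt_or_ge k 9 with h | h
      swap
      · obtain rfl : k = 9 := by omega
        rw [h9, valW_cons, valW_nil, mul_one]
        exact hβT
      have hx : permC (resC β hβT (yC k)) = permC (valW yC (img.getD k [])) := by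
        rw [hperm]
        refine Equiv.ext fun i => Fin.ext ?_
        rw [himg k h, permC_word (hsmall k (by omega))]
      have hval : ((yC k : CT) : LyP) = yv k := by
        rw [yC, dif_pos h, yv_vv h]; rfl
      have hc3 : yv k * yv k * yv k = 1 := by
        rw [yv_vv h, ← pow_three' (vv k), vv_cube isLy h]
      have hc := hcube k h
      rw [valW_append, valW_append] at hc
      rcases proj_eq proj_ker (a := resC β hβT (yC k)) (b := valW yC (img.getD k [])) (Subtype.ext hx) with e | e <;>
        rw [val_yC (hsmall k (by omega))] at e <;>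
        rw [show ((resC β hβT (yC k) : CT) : LyP) = β (yv k) by rw [← hval]; rfl] at e
      · exact e
      · exfalso
        obtain ⟨u, hu⟩ : ∃ u, u = valW yv (img.getD k []) := ⟨_, rfl⟩
        rw [← hu] at e hc
        have hTu : u * T = T * u := by
          rw [hu, ← val_yC (hsmall k (by omega))]
          exact Subgroup.mem_centralizer_singleton_iff.1 (Subtype.prop _)
        have h1 := congrArg β hc3
        rw [map_mul, map_mul, map_one, e] at h1
        refine T_ne ?_
        calc T = u * u * u * (T * T * T) := by rw [hc, one_mul, T_sq, one_mul]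
          _ = u * T * (u * T) * (u * T) := by
            have c1 : Commute u T := hTu
            rw [← mul_assoc, ← mul_assoc]
            simp only [mul_assoc, c1.symm.left_comm, c1.symm.eq]
          _ = 1 := h1
  rcases hρ2 with h | h
  · refine Or.inl (main idW (by decide) rfl (fun k hk => ?_) fun k hk i => ?_)
    · have e : idW.getD k [] = [k] := by interval_cases k <;> rfl
      rw [e]
      simp only [List.cons_append, List.nil_append, valW_cons, valW_nil, mul_one, yv_vv hk]
      rw [← mul_assoc, ← pow_three' (vv k), vv_cube isLy hk]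
    · rw [h, inv_one, mul_one, one_mul, ← id_perm k hk i i.2,
        show yC k = valW yC [k] by simp, permC_word (by simp; omega)]
      rfl
  · refine Or.inr (main vqW words_small.2.2.2 rfl (fun k hk => ?_) fun k hk i => ?_)
    · rw [eq_of_eqW (vq_cube k hk), valW_nil]
    · rw [h, swap_inv, Perm.mul_apply, Perm.mul_apply, ← vq_perm k hk i i.2]
      have hs : ∀ j : Fin 11, ((swap (4 : Fin 11) 6 j : Fin 11) : ℕ) =
          (if (j : ℕ) = 4 then (6 : ℕ) else if (j : ℕ) = 6 then (4 : ℕ) else (j : ℕ)) := by decide +kernel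
      rw [hs, show yC k = valW yC [k] by simp, permC_word (by simp; omega), hs]
      rfl

/-- Transport to the centraliser of the second involution. -/
theorem transported {β : MulAut LyP} {img : List (List ℕ)} (hβ : β T = T)
    (him : ∀ w : List ℕ, (∀ i ∈ w, i < 10) → β (valW yv w) = valW yv (mapW img w))
    (hs : valW yv (mapW img sW) = valW yv sW) {hs' ks : List (List ℕ)} {ws : List (List ℕ)}
    (hlen : hs'.length = 2) (hsm : ∀ k < 2, ∀ i ∈ ws.getD k [] ++ hs'.getD k [] ++ ks.getD k [], i < 10)
    (h1 : ∀ k < 2, valW yv (ws.getD k [] ++ [10]) = valW yv ([10] ++ hs'.getD k []))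
    (h2 : ∀ k < 2, valW yv (mapW img (ws.getD k []) ++ [10]) = valW yv ([10] ++ ks.getD k []))
    {orb : List (ℕ × List ℕ)} {reps : List ℕ} (hp : pathsOK hs' orb reps = true)
    (hreps : ∀ k < 2, reps.getD k 0 < 11) :
    ∃ (γ : MulAut LyP) (hγ : γ T = T) (π : Perm (Fin 11)), (∀ x, γ x = gEl⁻¹ * β (gEl * x * gEl⁻¹) * gEl) ∧
      (∀ c : CT, permC (resC γ hγ c) = π * permC c * π⁻¹) ∧
      ∃ a < 11, ∃ b < 11, fits hs' ks orb [a, b] = true ∧
        ∀ i : Fin 11, propF ks orb [a, b] i = (π i : ℕ) := by
  have hsmallS : ∀ i ∈ sW, i < 10 := fun i hi => words_small.2.2.1 i (by simp [hi])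
  have hgT : gEl * T = valW yv sW * gEl := by
    have h := eq_of_eqW s_ok.1
    rw [valW_append, valW_cons, valW_cons, valW_nil, mul_one, valW_cons, valW_nil, mul_one] at h
    exact h
  obtain ⟨γ, hγdef⟩ : ∃ γ, γ = MulAut.conj gEl⁻¹ * β * MulAut.conj gEl := ⟨_, rfl⟩
  have hγx : ∀ x, γ x = gEl⁻¹ * β (gEl * x * gEl⁻¹) * gEl := fun x => by
    rw [hγdef, MulAut.mul_apply, MulAut.mul_apply, MulAut.conj_apply, MulAut.conj_apply, inv_inv]
  have hγ : γ T = T := by
    rw [hγx, hgT, mul_inv_cancel_right, him sW hsmallS, hs, mul_assoc, ← hgT, inv_mul_cancel_left]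
  obtain ⟨π, hπ⟩ := exists_perm γ hγ
  refine ⟨γ, hγ, π, hγx, hπ, ?_⟩
  have hrel : ∀ (k : ℕ) (hk : k < 2) (i : Fin 11), (π (⟨pimg (hs'.getD k []) i, by
      rw [← permC_word (fun j hj => hsm k hk j (List.mem_append_left _ (List.mem_append_right _ hj))) i]
      exact Fin.isLt _⟩) : ℕ) =
        pimg (ks.getD k []) (π i : ℕ) := by
    intro k hk i
    have hh : ∀ j ∈ hs'.getD k [], j < 10 := fun j hj =>
      hsm k hk j (List.mem_append_left _ (List.mem_append_right _ hj))
    have hkk : ∀ j ∈ ks.getD k [], j < 10 := fun j hj => hsm k hk j (List.mem_append_right _ hj)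
    have hww : ∀ j ∈ ws.getD k [], j < 10 := fun j hj =>
      hsm k hk j (List.mem_append_left _ (List.mem_append_left _ hj))
    have e1 := h1 k hk
    have e2 := h2 k hk
    simp only [valW_append, valW_cons, valW_nil, mul_one] at e1 e2
    have e3 : resC γ hγ (valW yC (hs'.getD k [])) = valW yC (ks.getD k []) := Subtype.ext (by
      show γ _ = _
      rw [val_yC hh, val_yC hkk, hγx]
      show gEl⁻¹ * β (yv 10 * valW yv (hs'.getD k []) * (yv 10)⁻¹) * gEl = _
      rw [← e1, mul_inv_cancel_right, him _ hww]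
      show (yv 10)⁻¹ * valW yv (mapW img (ws.getD k [])) * yv 10 = _
      rw [mul_assoc, e2, inv_mul_cancel_left])
    have e4 := hπ (valW yC (hs'.getD k []))
    rw [e3, eq_mul_inv_iff_mul_eq] at e4
    have e5 := congrArg (fun σ : Perm (Fin 11) => ((σ i : Fin 11) : ℕ)) e4
    simp only [Perm.mul_apply, permC_word hkk] at e5
    rw [e5]
    congr 2
    exact Fin.ext (permC_word hh i).symm
  let P : ℕ → ℕ := fun i => if h : i < 11 then (π ⟨i, h⟩ : ℕ) else 0
  have hP : ∀ k < 2, ∀ i < 11, pimg (hs'.getD k []) i < 11 ∧ P (pimg (hs'.getD k []) i) = pimg (ks.getD k []) (P i) := by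
    intro k hk i hi
    have hlt : pimg (hs'.getD k []) i < 11 := by
      rw [show i = ((⟨i, hi⟩ : Fin 11) : ℕ) from rfl, ← permC_word (fun j hj =>
        hsm k hk j (List.mem_append_left _ (List.mem_append_right _ hj)))]
      exact Fin.isLt _
    refine ⟨hlt, ?_⟩
    simp only [P, dif_pos hlt, dif_pos hi]
    exact hrel k hk ⟨i, hi⟩
  have fold : ∀ (l : List ℕ) (i : ℕ), i < 11 → (∀ k ∈ l, k < 2) →
      l.foldl (fun z k => pimg (hs'.getD k []) z) i < 11 ∧
        P (l.foldl (fun z k => pimg (hs'.getD k []) z) i) = l.foldl (fun z k => pimg (ks.getD k []) z) (P i) := by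
    intro l
    induction l with
    | nil => intro i hi _; exact ⟨hi, rfl⟩
    | cons k l ih =>
      intro i hi hl
      obtain ⟨h3, h4⟩ := hP k (hl k List.mem_cons_self) i hi
      simp only [List.foldl_cons]
      rw [← h4]
      exact ih _ h3 fun j hj => hl j (List.mem_cons_of_mem _ hj)
  simp only [pathsOK, List.all_eq_true, List.mem_range, Bool.and_eq_true, decide_eq_true_eq, beq_iff_eq] at hp
  have hprop : ∀ i < 11, propF ks orb [P (reps.getD 0 0), P (reps.getD 1 0)] i = P i := by
    intro i hi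
    obtain ⟨⟨hr, hl⟩, he⟩ := hp i hi
    have := (fold _ _ (hreps _ hr) hl).2
    rw [he] at this
    rw [propF, this]
    congr 1
    generalize (orb.getD i (0, [])).1 = q at hr
    interval_cases q <;> rfl
  refine ⟨P (reps.getD 0 0), ?_, P (reps.getD 1 0), ?_, ?_, fun i => by rw [hprop i i.2]; simp [P]⟩
  · simp only [P, dif_pos (hreps 0 (by norm_num))]; exact Fin.isLt _
  · simp only [P, dif_pos (hreps 1 (by norm_num))]; exact Fin.isLt _
  · simp only [fits, Bool.and_eq_true, List.all_eq_true, List.mem_range, Bool.or_eq_true, Bool.not_eq_true',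
      beq_eq_false_iff_ne, beq_iff_eq, hlen]
    refine ⟨fun i hi j hj => ?_, fun k hk i hi => ?_⟩
    · rw [hprop i hi, hprop j hj]
      by_cases e : P i = P j
      · refine Or.inr ?_
        simp only [P, dif_pos hi, dif_pos hj] at e
        exact congrArg Fin.val (π.injective (Fin.ext e))
      · exact Or.inl e
    · obtain ⟨h3, h4⟩ := hP k hk i hi
      rw [hprop _ h3, hprop i hi, h4]

theorem not_tau {β : MulAut LyP} (hβ : β T = T)
    (him : ∀ w : List ℕ, (∀ i ∈ w, i < 10) → β (valW yv w) = valW yv (mapW vqW w)) : False := by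
  obtain ⟨-, -, -, -, -, a, ha, b, hb, hf, -⟩ := transported hβ him (eq_of_eqW s_tau) paths_ok.2.2.2
    (fun k hk => (words_small.1 k hk).2) (fun k hk => eq_of_eqW (conj1a_ok k hk))
    (fun k hk => eq_of_eqW (conj1b_ok k hk)) paths_ok.2.1 (by decide)
  rw [tau_solutions a ha b hb] at hf
  exact Bool.false_ne_true hf

theorem id_case {β : MulAut LyP} (hβ : β T = T)
    (him : ∀ w : List ℕ, (∀ i ∈ w, i < 10) → β (valW yv w) = valW yv (mapW idW w)) :
    β (yv 15) = yv 15 ∨ β (yv 15) = T * yv 15 * T := by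
  have hid : ∀ w : List ℕ, (∀ i ∈ w, i < 10) → valW yv (mapW idW w) = valW yv w := by
    intro w hw
    congr 1
    induction w with
    | nil => rfl
    | cons k w ih =>
      rw [mapW, List.flatMap_cons, ← mapW, ih fun j hj => hw j (List.mem_cons_of_mem _ hj)]
      have := hw k List.mem_cons_self
      interval_cases k <;> rfl
  obtain ⟨γ, hγ, π, hγx, hπ, a, ha, b, hb, hf, hprop⟩ := transported hβ him
    (hid sW fun i hi => words_small.2.2.1 i (by simp [hi])) paths_ok.2.2.1 (fun k hk => (words_small.1 k hk).1)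
    (fun k hk => eq_of_eqW (conj0_ok k hk).1) (fun k hk => eq_of_eqW (conj0_ok k hk).2) paths_ok.1 (by decide)
  have hcs : ∀ i ∈ cW, i < 10 := fun i hi => words_small.2.2.1 i (by simp [hi])
  have hds : ∀ i ∈ dW, i < 10 := fun i hi => words_small.2.2.1 i (by simp [hi])
  have ec : yv 15 * gEl = gEl * valW yv cW := by
    have h := eq_of_eqW c_ok.1
    simp only [valW_append, valW_cons, valW_nil, mul_one] at h
    exact h
  have ed : T * yv 15 * T * gEl = gEl * valW yv dW := by
    have h := eq_of_eqW c_ok.2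
    simp only [valW_append, valW_cons, valW_nil, mul_one] at h
    simp only [mul_assoc]
    exact h
  have hc5 : yv 15 ^ 5 = 1 := by
    have h := eq_of_eqW five_ok
    simp only [valW_cons, valW_nil, mul_one] at h
    simp only [pow_succ, pow_zero, one_mul, mul_assoc]
    exact h
  have key : ∀ (w : List ℕ) (y : LyP), (∀ i ∈ w, i < 10) → y ^ 5 = 1 → y * gEl = gEl * valW yv w →
      inter kW0 orbW0 [a, b] cW w = true → β (yv 15) = y := by
    intro w y hw hy5 ey hint
    simp only [inter, List.all_eq_true, List.mem_range, beq_iff_eq] at hint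
    have hperm : permC (resC γ hγ (valW yC cW)) = permC (valW yC w) := by
      rw [hπ, mul_inv_eq_iff_eq_mul]
      refine Equiv.ext fun i => Fin.ext ?_
      rw [Perm.mul_apply, Perm.mul_apply, permC_word hw, ← hprop i]
      have := hint i i.2
      rw [← this, ← permC_word hcs i, hprop]
    have hv : valW yv w = gEl⁻¹ * y * gEl := by rw [mul_assoc, ey, inv_mul_cancel_left]
    have hw5 : valW yv w ^ 5 = 1 := by
      rw [hv]
      have : (gEl⁻¹ * y * gEl) ^ 5 = gEl⁻¹ * y ^ 5 * gEl := by simp only [pow_succ, pow_zero, one_mul]; group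
      rw [this, hy5, mul_one, inv_mul_cancel]
    have hl : ((resC γ hγ (valW yC cW) : CT) : LyP) = gEl⁻¹ * β (yv 15) * gEl := by
      show γ _ = _
      rw [val_yC hcs, hγx, ← ec, mul_inv_cancel_right]
    have hl5 : (gEl⁻¹ * β (yv 15) * gEl) ^ 5 = 1 := by
      have : (gEl⁻¹ * β (yv 15) * gEl) ^ 5 = gEl⁻¹ * β (yv 15) ^ 5 * gEl := by
        simp only [pow_succ, pow_zero, one_mul]; group
      rw [this, ← map_pow, hc5, map_one, mul_one, inv_mul_cancel]
    rcases proj_eq proj_ker (a := resC γ hγ (valW yC cW)) (b := valW yC w) (Subtype.ext hperm) with e | e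
    · rw [hl, val_yC hw, hv] at e
      exact mul_left_cancel (mul_right_cancel e)
    · exfalso
      rw [hl, val_yC hw] at e
      have hc : Commute (valW yv w) T := by
        rw [← val_yC hw]
        exact Subgroup.mem_centralizer_singleton_iff.1 (Subtype.prop _)
      rw [e, hc.mul_pow, hw5, one_mul] at hl5
      refine T_ne ?_
      calc T = T ^ 5 := by simp only [pow_succ, pow_zero, one_mul, T_sq]
        _ = 1 := hl5
  rcases id_solutions a ha b hb hf with h | h
  · exact Or.inl (key cW _ hcs hc5 ec h)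
  · refine Or.inr (key dW _ hds ?_ ed h)
    calc (T * yv 15 * T) ^ 5 = T * yv 15 * (T * T) * yv 15 * (T * T) * yv 15 * (T * T) * yv 15 * (T * T) *
          yv 15 * T := by simp only [pow_succ, pow_zero, one_mul, mul_assoc]
      _ = T * yv 15 ^ 5 * T := by simp only [T_sq, mul_one, pow_succ, pow_zero, one_mul, mul_assoc]
      _ = 1 := by rw [hc5, mul_one, T_sq]

theorem ext_gens {β γ : MulAut LyP} (h0 : β (gL 0) = γ (gL 0)) (h2 : β (gL 2) = γ (gL 2)) (h4 : β (gL 4) = γ (gL 4))
    (h6 : β (gL 6) = γ (gL 6)) (h9 : β (gL 9) = γ (gL 9)) : β = γ := by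
  obtain ⟨L, hL⟩ : ∃ L, L = MonoidHom.eqLocus β.toMonoidHom γ.toMonoidHom := ⟨_, rfl⟩
  have hmem : ∀ x, x ∈ L ↔ β x = γ x := fun x => hL ▸ Iff.rfl
  have hH : Hs ≤ L := by
    rw [← map_mk_Hs, MonoidHom.map_closure, Subgroup.closure_le]
    rintro _ ⟨w, hw, rfl⟩
    simp only [Set.mem_insert_iff, Set.mem_singleton_iff] at hw
    rw [SetLike.mem_coe, hmem]
    rcases hw with rfl | rfl | rfl | rfl
    · exact h0
    · exact h2
    · exact h4
    · exact h6
  have htop : L = ⊤ := by
    rw [eq_top_iff, ← PresentedGroup.closure_range_of, Subgroup.closure_le]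
    rintro _ ⟨x, rfl⟩
    refine (Subgroup.closure_le L).2 ?_ (LyIndex.gen_mem x)
    rintro s (rfl | hs)
    · rw [SetLike.mem_coe, hmem]; exact h9
    · exact hH hs
  exact MulEquiv.ext fun x => (hmem x).1 (htop ▸ Subgroup.mem_top x)

theorem mem_inn (α : MulAut LyP) : α ∈ Inn LyP := by
  have hα : orderOf (α T) = 2 := by
    rw [show α T = α.toMonoidHom T from rfl, orderOf_injective α.toMonoidHom α.injective]
    exact orderOf_eq_prime (by rw [pow_two, T_sq]) T_ne
  obtain ⟨h, hh⟩ := isConj_iff.1 (all_conj isLy hα).symm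
  obtain ⟨c, hcT, hc⟩ := exists_normal (MulAut.conj h * α) (by rw [MulAut.mul_apply, MulAut.conj_apply, hh])
  obtain ⟨β, hβ⟩ : ∃ β, β = MulAut.conj c * (MulAut.conj h * α) := ⟨_, rfl⟩
  rw [← hβ] at hcT hc
  have hinn : β ∈ Inn LyP := by
    rcases hc with him | him
    swap
    · exact (not_tau hcT him).elim
    have hfix : ∀ k < 4, β (yv (11 + k)) = yv (11 + k) := by
      intro k hk
      have hw := words_small.2.1 k hk
      have e := eq_of_eqW (gen_ok k hk)
      rw [valW_cons, valW_nil, mul_one] at e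
      rw [e, him _ hw]
      congr 1
      clear e
      generalize genW.getD k [] = w at hw
      induction w with
      | nil => rfl
      | cons i w ih =>
        rw [mapW, List.flatMap_cons, ← mapW, ih fun j hj => hw j (List.mem_cons_of_mem _ hj)]
        have := hw i List.mem_cons_self
        interval_cases i <;> rfl
    have hfixT : ∀ k < 4, T * yv (11 + k) * T = yv (11 + k) := by
      intro k hk
      have e := eq_of_eqW (gen_ok k hk)
      rw [valW_cons, valW_nil, mul_one] at e
      rw [e, ← val_yC (words_small.2.1 k hk), ← Subgroup.mem_centralizer_singleton_iff.1 (Subtype.prop _),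
        mul_assoc, T_sq, mul_one]
    have hconj : ∀ x, MulAut.conj T x = T * x * T := fun x => by rw [MulAut.conj_apply, T_inv]
    rcases id_case hcT him with h15 | h15
    · rw [ext_gens (γ := 1) (hfix 0 (by norm_num)) (hfix 1 (by norm_num)) h15 (hfix 2 (by norm_num))
        (hfix 3 (by norm_num))]
      exact one_mem _
    · refine ⟨T, (ext_gens ?_ ?_ ?_ ?_ ?_).symm⟩ <;> rw [hconj]
      · exact (hfix 0 (by norm_num)).trans (hfixT 0 (by norm_num)).symm
      · exact (hfix 1 (by norm_num)).trans (hfixT 1 (by norm_num)).symm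
      · exact h15
      · exact (hfix 2 (by norm_num)).trans (hfixT 2 (by norm_num)).symm
      · exact (hfix 3 (by norm_num)).trans (hfixT 3 (by norm_num)).symm
  have hI : ∀ x : LyP, MulAut.conj x ∈ Inn LyP := fun x => ⟨x, rfl⟩
  rwa [hβ, Subgroup.mul_mem_cancel_left _ (hI c), Subgroup.mul_mem_cancel_left _ (hI h)] at hinn

theorem card_out : Nat.card (Out LyP) = 1 := by
  show (Inn LyP).index = 1
  rw [Subgroup.index_eq_one, eq_top_iff]
  exact fun α _ => mem_inn α

end CfsgLib.Sporadic.CosetCert.LyOut
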