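import Cfsg.Agent.Lib.Schur.Ly.Wide
import Cfsg.Agent.Lib.Sporadic.LyCent.Classes
import Cfsg.Agent.Lib.Sporadic.LyOut.Data

/-!
# The matrices of the elements used for the outer automorphisms of the Lyons group
-/

set_option autoImplicit false
set_option maxRecDepth 100000

namespace CfsgLib.Sporadic.CosetCert.LyOut

open LyG2Five LyIndex LyCent WideMatrix CfsgLib.Schur.Sporadic.Ly

/-- The matrix of a product conjugate. -/
noncomputable def matR : List ℕ := expMat short_r
/-- The product of the two involutions at the first step. -/
noncomputable def matP : List ℕ := expMat short_p
/-- The product of the two involutions at the second step. -/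
noncomputable def matQ : List ℕ := expMat short_q
/-- The conjugating element. -/
noncomputable def matG : List ℕ := expMat short_g

/-- The nine elements, the involution, the conjugating element and the generators. -/
noncomputable def kk : List (List ℕ) :=
  [mA 0, mA 1, mA 2, mA 3, mA 4, mA 5, mA 6, mA 7, mA 8, mT, matG,
    lett111 0, lett111 2, lett111 6, lett111 9, lett111 4]

theorem matR_chk : okRows 111 matR = true ∧ prodIs [lett111 0, lett111 6, lett111 5, lett111 0, lett111 0,
    lett111 0, lett111 0, lett111 4, lett111 7, lett111 1] matR = true := by decide +kernel

theorem matP_chk : okRows 111 matP = true ∧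
    prodIs [lett111 0, lett111 0, lett111 0, lett111 0, matR] matP = true := by decide +kernel

theorem matQ_chk : okRows 111 matQ = true ∧
    prodIs (matR :: sW.map fun i => if i < 9 then mA i else mT) matQ = true := by decide +kernel

theorem matG_chk : okRows 111 matG = true ∧
    prodIs (List.replicate 15 matQ ++ List.replicate 2 matP) matG = true := by decide +kernel

end CfsgLib.Sporadic.CosetCert.LyOut
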